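import Cfsg.Agent.Lib.FischerThm.H1.Twin
import Cfsg.Agent.Lib.FischerUnit14.Final

/-!
# Node H1: the unitary groups over four elements
-/

set_option autoImplicit false
set_option linter.unusedSimpArgs false

namespace Cfsg.Agent.Lib.FischerThm.H1

open Cfsg Cfsg.Agent.Lib.Unitary Cfsg.Agent.Lib.UnitaryFour.Transvection Matrix

variable {F : Type} [Field F] [Fintype F] {n : ℕ}

/-- two transvection images commute exactly when their centres are orthogonal -/
theorem tvImage_commute_iff (hF : Fintype.card F = 2 ^ 2) (hn : 3 ≤ n) {v w : Fin n → F}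
    (hv : hermForm n F 2 v v = 0) (hw : hermForm n F 2 w w = 0) :
    Commute (QuotientGroup.mk' (Subgroup.center (SU n F 2)) (tv hF v hv))
        (QuotientGroup.mk' (Subgroup.center (SU n F 2)) (tv hF w hw)) ↔
      hermForm n F 2 v w = 0 := by
  refine ⟨fun h => ?_, fun h => (tv_comm hF hv hw h).map _⟩
  have hz : tv hF v hv * tv hF w hw * (tv hF v hv * tv hF w hw) ∈ Subgroup.center (SU n F 2) := by
    rw [← QuotientGroup.eq_one_iff]
    show QuotientGroup.mk' (Subgroup.center (SU n F 2)) _ = 1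
    rw [map_mul, map_mul, h.symm.mul_mul_mul_comm, ← map_mul, ← map_mul,
      tv_mul_self hF, tv_mul_self hF, map_one, one_mul]
  obtain ⟨u, hu0, hu1, hu2⟩ : ∃ u : Fin n → F,
      u ≠ 0 ∧ hermForm n F 2 u v = 0 ∧ hermForm n F 2 u w = 0 := by
    classical
    have hne : perp 2 (Submodule.span F ({v, w} : Set (Fin n → F))) ≠ ⊥ := by
      intro h
      have h1 := finrank_perp hF (Submodule.span F ({v, w} : Set (Fin n → F)))
      rw [h, finrank_bot] at h1
      have h2 : Module.finrank F (Submodule.span F ({v, w} : Set (Fin n → F))) ≤ 2 := by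
        have := finrank_span_finset_le_card (R := F) ({v, w} : Finset (Fin n → F))
        rw [Finset.coe_pair] at this
        exact this.trans Finset.card_le_two
      omega
    obtain ⟨u, hu, hu0⟩ := Submodule.exists_mem_ne_zero_of_ne_bot hne
    exact ⟨u, hu0, hu v (Submodule.subset_span (by simp)), hu w (Submodule.subset_span (by simp))⟩
  obtain ⟨l, hl⟩ := (mem_center_SU_iff hF (by omega) _).1 hz
  have hl1 : l = 1 := by
    refine smul_left_injective F hu0 ?_
    show l • u = (1 : F) • u
    rw [one_smul, ← hl u]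
    show act (tv hF v hv * tv hF w hw * (tv hF v hv * tv hF w hw)) u = u
    simp [act_mul, act_tv, hu1, hu2]
  have h1 : tv hF v hv * tv hF w hw * (tv hF v hv * tv hF w hw) = 1 := ext' fun x => by
    rw [act_one]
    show _ *ᵥ x = x
    rw [hl, hl1, one_smul]
  have hc : Commute (tv hF v hv) (tv hF w hw) := by
    have h2 := inv_eq_of_mul_eq_one_right h1
    rw [_root_.mul_inv_rev, inv_eq_of_mul_eq_one_right (tv_mul_self hF hv),
      inv_eq_of_mul_eq_one_right (tv_mul_self hF hw)] at h2
    exact h2.symm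
  by_contra hne
  have hv0 : v ≠ 0 := fun h => hne (by rw [h, herm_zero_left])
  have := congrArg (fun g => act g v) hc.eq
  simp only [act_mul, act_tv, act_add, act_smul, hv, zero_smul, add_zero, herm_add_left, herm_smul_left]
    at this
  have h3 : (hermForm n F 2 v w * hermForm n F 2 w v) • v = 0 := by
    rw [← sub_eq_zero] at this
    rw [← this]
    simp only [smul_add, smul_smul, zero_add]
    abel
  rcases smul_eq_zero.mp h3 with h4 | h4
  · rcases mul_eq_zero.mp h4 with h5 | h5
    · exact hne h5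
    · exact hne (herm_eq_zero_symm hF h5)
  · exact hv0 h4

theorem hasTwinTwo_psu (hF4 : Fintype.card F = 4) (hn : 4 ≤ n) :
    HasTwinTwo ((QuotientGroup.mk : ↥(Cfsg.SU n F 2) → Cfsg.PSU n F 2) '' {g : ↥(Cfsg.SU n F 2) |
      (((g : Matrix.SpecialLinearGroup (Fin n) F) : Matrix (Fin n) (Fin n) F) - 1).rank = 1}) := by
  classical
  have hF : Fintype.card F = 2 ^ 2 := by rw [hF4]; norm_num
  obtain ⟨o, ho0, ho1, ho⟩ := exists_omega hF
  have h2 := two_eq_zero hF
  have ho3 : o ^ 3 = 1 := cube_eq_one hF ho0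
  let e : Fin 4 → (Fin n → F) := fun i => Pi.single (Fin.castLE hn i) 1
  have he : ∀ i j, hermForm n F 2 (e i) (e j) = if i = j then 1 else 0 := fun i j => by
    rw [herm_std hF]
    by_cases h : i = j
    · rw [if_pos h, if_pos (congrArg _ h)]
    · rw [if_neg h, if_neg fun h' => h (Fin.castLE_injective hn h')]
  have e00 := he 0 0; have e01 := he 0 1; have e02 := he 0 2; have e03 := he 0 3
  have e10 := he 1 0; have e11 := he 1 1; have e12 := he 1 2; have e13 := he 1 3
  have e20 := he 2 0; have e21 := he 2 1; have e22 := he 2 2; have e23 := he 2 3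
  have e30 := he 3 0; have e31 := he 3 1; have e32 := he 3 2; have e33 := he 3 3
  simp only [Fin.reduceEq, if_true, if_false] at e00 e01 e02 e03 e10 e11 e12 e13 e20 e21 e22 e23 e30 e31 e32 e33
  let p : Fin n → F := e 0 + e 1
  let q : Fin n → F := e 2 + e 3
  let x : Fin n → F := e 2 + o • e 3
  let y : Fin n → F := e 0 + o • e 1
  have hv : ∀ z : Fin n → F, hermForm n F 2 (p + q) z = hermForm n F 2 p z + hermForm n F 2 q z :=
    fun z => herm_add_left _ _ _
  have hpp : hermForm n F 2 p p = 0 := by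
    simp [p, herm_add_left, herm_add_right _ _ _ hF, e00, e01, e10, e11]; linear_combination h2
  have hqq : hermForm n F 2 q q = 0 := by
    simp [q, herm_add_left, herm_add_right _ _ _ hF, e22, e23, e32, e33]; linear_combination h2
  have hpq : hermForm n F 2 p q = 0 := by
    simp [p, q, herm_add_left, herm_add_right _ _ _ hF, e02, e03, e12, e13]
  have hxx : hermForm n F 2 x x = 0 := by
    simp [x, herm_add_left, herm_add_right _ _ _ hF, herm_smul_left, herm_smul_right, e22, e23, e32, e33]
    linear_combination h2 + ho3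
  have hyy : hermForm n F 2 y y = 0 := by
    simp [y, herm_add_left, herm_add_right _ _ _ hF, herm_smul_left, herm_smul_right, e00, e01, e10, e11]
    linear_combination h2 + ho3
  have hpx : hermForm n F 2 p x = 0 := by
    simp [p, x, herm_add_left, herm_add_right _ _ _ hF, herm_smul_right, e02, e03, e12, e13]
  have hyq : hermForm n F 2 y q = 0 := by
    simp [y, q, herm_add_left, herm_add_right _ _ _ hF, herm_smul_left, e02, e03, e12, e13]
  have hqx : hermForm n F 2 q x ≠ 0 := by
    simp [q, x, herm_add_left, herm_add_right _ _ _ hF, herm_smul_right, e22, e23, e32, e33]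
    intro h
    exact ho0 (by linear_combination ho - h)
  have hyp : hermForm n F 2 y p ≠ 0 := by
    simp [y, p, herm_add_left, herm_add_right _ _ _ hF, herm_smul_left, e00, e01, e10, e11]
    intro h
    exact ho1 (by linear_combination h - h2)
  have hyv : hermForm n F 2 y (p + q) ≠ 0 := by
    rw [herm_add_right _ _ _ hF, hyq, add_zero]; exact hyp
  have hpv : hermForm n F 2 p (p + q) = 0 := by
    rw [herm_add_right _ _ _ hF, hpp, hpq, add_zero]
  have hvv : hermForm n F 2 (p + q) (p + q) = 0 := by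
    rw [hv, hpv, herm_add_right _ _ _ hF, herm_eq_zero_symm hF hpq, hqq]; simp
  have nz : ∀ a b : Fin n → F, hermForm n F 2 a b ≠ 0 → a ≠ 0 ∧ b ≠ 0 := fun a b h =>
    ⟨fun h0 => h (by rw [h0, herm_zero_left]), fun h0 => h (by rw [h0]; simp [hermForm])⟩
  refine hasTwinTwo_of_rel
    (t := fun v : {v : Fin n → F // v ≠ 0 ∧ hermForm n F 2 v v = 0} =>
      QuotientGroup.mk' (Subgroup.center (SU n F 2)) (tv hF v.1 v.2.2))
    (R := fun v w => hermForm n F 2 v.1 w.1 = 0) ?_
    (fun v w => tvImage_commute_iff hF (by omega) v.2.2 w.2.2)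
    ⟨p, (nz _ _ hyp).2, hpp⟩ ⟨q, (nz _ _ hqx).1, hqq⟩ ⟨p + q, (nz _ _ hyv).2, hvv⟩
    ⟨x, (nz _ _ hqx).2, hxx⟩ ⟨y, (nz _ _ hyp).1, hyy⟩ hpq hpv hpx hqx hyq hyv fun w hw => ?_
  · ext g
    constructor
    · rintro ⟨v, rfl⟩
      exact ⟨tv hF v.1 v.2.2,
        (FischerUnit14.rank_sub_one_eq_one_iff hF _).2 ⟨v.1, v.2.2, v.2.1, rfl⟩, rfl⟩
    · rintro ⟨a, ha, rfl⟩
      obtain ⟨w, hw, hw0, rfl⟩ := (FischerUnit14.rank_sub_one_eq_one_iff hF a).1 ha
      exact ⟨⟨w, hw0, hw⟩, rfl⟩
  · show hermForm n F 2 (p + q) w.1 = 0 ↔ hermForm n F 2 q w.1 = 0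
    rw [hv, show hermForm n F 2 p w.1 = 0 from hw, zero_add]

end Cfsg.Agent.Lib.FischerThm.H1
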