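import Cfsg.Agent.Lib.FischerThm.H1.Twin
import Cfsg.Agent.Lib.Symplectic.Std
import Cfsg.Agent.S0440

/-!
# Node H1: the symplectic groups over two elements
-/

set_option autoImplicit false
set_option linter.unusedSimpArgs false
set_option linter.unusedVariables false

namespace Cfsg.Agent.Lib.FischerThm.H1

open Cfsg Matrix Cfsg.Agent.Lib.Symplectic

variable {m : ℕ}

theorem z2_cases : ∀ x : ZMod 2, x = 0 ∨ x = 1 := by decide

theorem transv_commute_iff (u w : Fin m ⊕ Fin m → ZMod 2) (hu : u ≠ 0) (hw : w ≠ 0) :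
    Commute (transv (isSympForm_stdForm m (ZMod 2)) u 1) (transv (isSympForm_stdForm m (ZMod 2)) w 1) ↔
      stdForm m (ZMod 2) u w = 0 := by
  have hB := isSympForm_stdForm m (ZMod 2)
  constructor
  · intro h
    by_contra h0
    have huw : stdForm m (ZMod 2) u w = 1 := (z2_cases _).resolve_left h0
    have hwu : stdForm m (ZMod 2) w u = 1 := by rw [hB.swap w u, huw]; decide
    have h1 := congrArg (fun g => g • u) h.eq
    simp only [mul_smul, transv_smul, map_add, map_smul, LinearMap.add_apply, LinearMap.smul_apply,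
      smul_eq_mul, hB.self, huw, hwu, one_mul, mul_one, mul_zero, zero_smul, one_smul, add_zero,
      zero_add] at h1
    exact hu (by simpa [add_assoc, add_comm w u] using h1)
  · intro h
    have h' : stdForm m (ZMod 2) w u = 0 := by rw [hB.swap w u, h, neg_zero]
    refine isom_ext fun x => ?_
    simp only [mul_smul, transv_smul, map_add, map_smul, LinearMap.add_apply, LinearMap.smul_apply,
      smul_eq_mul, h, h', one_mul, mul_zero, add_zero]
    abel

theorem hasTwinTwo_sp (hm : 2 ≤ m) :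
    HasTwinTwo {g : Matrix.symplecticGroup (Fin m) (ZMod 2) |
      ((g : Matrix (Fin m ⊕ Fin m) (Fin m ⊕ Fin m) (ZMod 2)) - 1).rank = 1} := by
  classical
  have hB := isSympForm_stdForm m (ZMod 2)
  let i₀ : Fin m := ⟨0, by omega⟩
  let i₁ : Fin m := ⟨1, by omega⟩
  have hne : i₀ ≠ i₁ := fun h => absurd (congrArg Fin.val h) (by simp [i₀, i₁])
  have hnz : ∀ s, (Pi.single s 1 : Fin m ⊕ Fin m → ZMod 2) ≠ 0 := fun s => by simp
  let e0 : Fin m ⊕ Fin m → ZMod 2 := Pi.single (Sum.inl i₀) 1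
  let e1 : Fin m ⊕ Fin m → ZMod 2 := Pi.single (Sum.inl i₁) 1
  let f0 : Fin m ⊕ Fin m → ZMod 2 := Pi.single (Sum.inr i₀) 1
  let f1 : Fin m ⊕ Fin m → ZMod 2 := Pi.single (Sum.inr i₁) 1
  have he01 : e0 + e1 ≠ 0 := fun h => by
    have := congrFun h (Sum.inl i₀)
    simp [e0, e1, hne] at this
  refine hasTwinTwo_of_rel
    (t := fun v : {v : Fin m ⊕ Fin m → ZMod 2 // v ≠ 0} => (spEquiv m (ZMod 2)).symm (transv hB v.1 1))
    (R := fun v w => stdForm m (ZMod 2) v.1 w.1 = 0) ?_ ?_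
    ⟨e0, hnz _⟩ ⟨e1, hnz _⟩ ⟨e0 + e1, he01⟩ ⟨f1, hnz _⟩ ⟨f0, hnz _⟩ ?_ ?_ ?_ ?_ ?_ ?_ fun w hw => ?_
  · ext g
    rw [Set.mem_ofPred_eq, Cfsg.Agent.S0440.rank_one_iff]
    constructor
    · rintro ⟨v, rfl⟩
      exact ⟨v.1, v.2, MulEquiv.apply_symm_apply _ _⟩
    · rintro ⟨v, hv, e⟩
      exact ⟨⟨v, hv⟩, (spEquiv m (ZMod 2)).injective (by rw [MulEquiv.apply_symm_apply, e])⟩
  · exact fun v w => (commute_symm_apply_iff _).trans (transv_commute_iff v.1 w.1 v.2 w.2)
  · simp [e0, e1, stdForm_apply, Pi.single_apply]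
  · simp [e0, e1, stdForm_apply, Pi.single_apply]
  · simp [e0, f1, stdForm_apply, Pi.single_apply, hne, hne.symm]
  · simp [e1, f1, stdForm_apply, Pi.single_apply]
  · simp [f0, e1, stdForm_apply, Pi.single_apply, hne, hne.symm]
  · simp [f0, e0, e1, stdForm_apply, Pi.single_apply, hne, hne.symm]
  · show stdForm m (ZMod 2) (e0 + e1) w.1 = 0 ↔ stdForm m (ZMod 2) e1 w.1 = 0
    rw [map_add, LinearMap.add_apply, show stdForm m (ZMod 2) e0 w.1 = 0 from hw, zero_add]

end Cfsg.Agent.Lib.FischerThm.H1
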