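import Cfsg.Agent.Lib.FischerThm.H1.Sym
import Cfsg.Agent.Lib.FischerThm.H1.Sp
import Cfsg.Agent.Lib.FischerThm.H1.Unitary

/-!
# Node H1

Symplectic and unitary groups and `S₆` have a non-central local 2-core, `S₅` a non-central local 3-core.
-/

set_option autoImplicit false

namespace Cfsg.Agent.Lib.FischerThm.H1

universe u

theorem nodeH1 : NodeH1.{u} := by
  intro G _ _ D hP d hd
  refine ⟨fun h => not_localCentral_two hP ?_ hd, fun h => not_localCentral_three hP ?_ hd⟩
  · rcases h with ⟨m, hm, e, he⟩ | ⟨n, hn, F, i1, i2, hF, e, he⟩ | ⟨e, he⟩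
    · exact hasTwinTwo_of_equiv e he (hasTwinTwo_sp hm)
    · exact hasTwinTwo_of_equiv e he (hasTwinTwo_psu hF hn)
    · exact hasTwinTwo_of_equiv e he hasTwinTwo_six
  · obtain ⟨e, he⟩ := h
    exact hasTwinThree_of_equiv e he hasTwinThree_five

end Cfsg.Agent.Lib.FischerThm.H1
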