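import Cfsg.Agent.Lib.FischerThm.H1.Twin

/-!
# Node H1: the symmetric groups of degree five and six
-/

set_option autoImplicit false

namespace Cfsg.Agent.Lib.FischerThm.H1

open Equiv

theorem six_table : ∀ i j : Fin 6, i ≠ j → swap i j ≠ swap 0 1 →
    Commute (swap (0 : Fin 6) 1) (swap i j) →
    (Commute (swap (4 : Fin 6) 5) (swap i j) ↔ Commute (swap (2 : Fin 6) 3) (swap i j)) := by
  simp only [commute_iff_eq]
  decide

theorem five_table : ∀ i j : Fin 5, i ≠ j → swap i j ≠ swap 0 1 →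
    Commute (swap (0 : Fin 5) 1) (swap i j) →
    (swap i j ≠ swap 2 3 ∧ Commute (swap (2 : Fin 5) 3) (swap i j) ↔
      swap i j ≠ swap 2 4 ∧ Commute (swap (2 : Fin 5) 4) (swap i j)) := by
  simp only [commute_iff_eq]
  decide

theorem hasTwinTwo_six : HasTwinTwo {σ : Perm (Fin 6) | σ.IsSwap} := by
  refine ⟨swap 0 1, ⟨0, 1, by decide, rfl⟩,
    swap 2 3, ⟨⟨2, 3, by decide, rfl⟩, by decide, by rw [commute_iff_eq]; decide⟩,
    swap 4 5, ⟨⟨4, 5, by decide, rfl⟩, by decide, by rw [commute_iff_eq]; decide⟩,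
    by decide, fun x hx => ?_,
    swap 2 4, ⟨⟨2, 4, by decide, rfl⟩, by decide, by rw [commute_iff_eq]; decide⟩,
    by rw [commute_iff_eq]; decide⟩
  obtain ⟨⟨i, j, hij, rfl⟩, hne, hc⟩ := hx
  exact six_table i j hij hne hc

theorem hasTwinThree_five : HasTwinThree {σ : Perm (Fin 5) | σ.IsSwap} := by
  refine ⟨swap 0 1, ⟨0, 1, by decide, rfl⟩,
    swap 2 3, ⟨⟨2, 3, by decide, rfl⟩, by decide, by rw [commute_iff_eq]; decide⟩,
    swap 2 4, ⟨⟨2, 4, by decide, rfl⟩, by decide, by rw [commute_iff_eq]; decide⟩,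
    by decide, fun x hx => ?_⟩
  obtain ⟨⟨i, j, hij, rfl⟩, hne, hc⟩ := hx
  exact five_table i j hij hne hc

end Cfsg.Agent.Lib.FischerThm.H1
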