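import Cfsg.Agent.Lib.FischerThm.Local
import Cfsg.Agent.Lib.ThreeTranspositions.Width
import Cfsg.Agent.Lib.ThreeTranspositions.QuatCentre
import Cfsg.Agent.Lib.FischerMTypes.Levels

/-!
# Node H1: twins among the members commuting with one member

Two members commuting with `d` with the same commuting partners there give a non-central local core.
-/

set_option autoImplicit false
set_option linter.unusedSectionVars false

namespace Cfsg.Agent.Lib.FischerThm.H1

open Cfsg Cfsg.Agent.Lib.ThreeTranspositions Cfsg.Agent.Lib.FischerMTypes.Primitive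

universe u

/-- two commuting twins at some member, not central among its commuting members -/
def HasTwinTwo {X : Type*} [Group X] (T : Set X) : Prop :=
  ∃ d ∈ T, ∃ b ∈ perp T d, ∃ v ∈ perp T d, v ≠ b ∧ (∀ x ∈ perp T d, Commute v x ↔ Commute b x) ∧
    ∃ x ∈ perp T d, ¬ Commute b x

/-- two non-commuting twins at some member -/
def HasTwinThree {X : Type*} [Group X] (T : Set X) : Prop :=
  ∃ d ∈ T, ∃ b ∈ perp T d, ∃ v ∈ perp T d, v ≠ b ∧
    ∀ x ∈ perp T d, (x ≠ b ∧ Commute b x ↔ x ≠ v ∧ Commute v x)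

section transport

variable {G X : Type*} [Group G] [Group X] {D : Set G} {T : Set X}

theorem commute_symm_apply_iff (e : G ≃* X) {s t : X} :
    Commute (e.symm s) (e.symm t) ↔ Commute s t := by
  refine ⟨fun h => ?_, fun h => h.map e.symm.toMonoidHom⟩
  simpa using h.map e.toMonoidHom

theorem mem_perp_symm_iff (e : G ≃* X) (he : e '' D = T) {d x : X} :
    e.symm x ∈ perp D (e.symm d) ↔ x ∈ perp T d := by
  show (e.symm x ∈ D ∧ e.symm x ≠ e.symm d ∧ Commute (e.symm d) (e.symm x)) ↔ _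
  rw [commute_symm_apply_iff, e.symm.injective.ne_iff, ← he]
  refine and_congr_left fun _ => ?_
  exact ⟨fun h => ⟨_, h, e.apply_symm_apply x⟩, fun ⟨y, hy, hyx⟩ => by rwa [← hyx, e.symm_apply_apply]⟩

theorem hasTwinTwo_of_equiv (e : G ≃* X) (he : e '' D = T) (h : HasTwinTwo T) : HasTwinTwo D := by
  obtain ⟨d, hd, b, hb, v, hv, hne, hsame, x, hx, hbx⟩ := h
  have hd' : e.symm d ∈ D := by
    rw [← he] at hd
    obtain ⟨y, hy, rfl⟩ := hd
    rwa [e.symm_apply_apply]
  refine ⟨_, hd', _, (mem_perp_symm_iff e he).2 hb, _, (mem_perp_symm_iff e he).2 hv,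
    e.symm.injective.ne hne, fun y hy => ?_, _, (mem_perp_symm_iff e he).2 hx,
    fun h => hbx ((commute_symm_apply_iff e).1 h)⟩
  obtain ⟨z, rfl⟩ := e.symm.surjective y
  rw [commute_symm_apply_iff, commute_symm_apply_iff]
  exact hsame z ((mem_perp_symm_iff e he).1 hy)

theorem hasTwinThree_of_equiv (e : G ≃* X) (he : e '' D = T) (h : HasTwinThree T) : HasTwinThree D := by
  obtain ⟨d, hd, b, hb, v, hv, hne, hsame⟩ := h
  have hd' : e.symm d ∈ D := by
    rw [← he] at hd
    obtain ⟨y, hy, rfl⟩ := hd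
    rwa [e.symm_apply_apply]
  refine ⟨_, hd', _, (mem_perp_symm_iff e he).2 hb, _, (mem_perp_symm_iff e he).2 hv,
    e.symm.injective.ne hne, fun y hy => ?_⟩
  obtain ⟨z, rfl⟩ := e.symm.surjective y
  rw [commute_symm_apply_iff, commute_symm_apply_iff, e.symm.injective.ne_iff, e.symm.injective.ne_iff]
  exact hsame z ((mem_perp_symm_iff e he).1 hy)

/-- twins of a parametrised set from its commuting relation -/
theorem hasTwinTwo_of_rel {I : Type*} {t : I → X} (hT : Set.range t = T) {R : I → I → Prop}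
    (hR : ∀ i j, Commute (t i) (t j) ↔ R i j) (p q v x y : I) (hpq : R p q) (hpv : R p v) (hpx : R p x)
    (hqx : ¬ R q x) (hyq : R y q) (hyv : ¬ R y v) (hsame : ∀ i, R p i → (R v i ↔ R q i)) :
    HasTwinTwo T := by
  have hxp : Commute (t p) (t x) := (hR p x).2 hpx
  have hqx' : ¬ Commute (t q) (t x) := fun h => hqx ((hR q x).1 h)
  have hvx' : ¬ Commute (t v) (t x) := fun h => hqx ((hsame x hpx).1 ((hR v x).1 h))
  have hmem : ∀ i, t i ∈ T := fun i => hT ▸ Set.mem_range_self i
  have hq : t q ∈ perp T (t p) :=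
    ⟨hmem q, fun h => hqx' (by rw [h]; exact hxp), (hR p q).2 hpq⟩
  have hv : t v ∈ perp T (t p) :=
    ⟨hmem v, fun h => hvx' (by rw [h]; exact hxp), (hR p v).2 hpv⟩
  refine ⟨t p, hmem p, t q, hq, t v, hv, fun h => hyv ((hR y v).1 ?_), fun z hz => ?_,
    t x, ⟨hmem x, fun h => hqx' (by rw [h]; exact hq.2.2.symm), hxp⟩, hqx'⟩
  · rw [h]; exact (hR y q).2 hyq
  · obtain ⟨i, rfl⟩ := hT ▸ hz.1
    rw [hR, hR]
    exact hsame i ((hR p i).1 hz.2.2)

end transport

variable {G : Type u} [Group G] [Finite G] {D : Set G}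

theorem closed_local (hP : Prim D) (d : G) :
    ThreeTranspositions.IsClosedSet {x : ↥(Hd D d) | (x : G) ∈ perp D d} := by
  refine ⟨⟨fun x hx => ?_, fun x hx y hy => ?_⟩, fun g x hx => ?_⟩
  · rw [← Subgroup.orderOf_coe]; exact hP.hD.1.1 _ hx.1
  · rcases hP.hD.1.2 _ hx.1 _ hy.1 with h | h
    · exact Or.inl (Subtype.ext (by simpa using h))
    · exact Or.inr (Subtype.ext (by simpa using h))
  · show (g : G) * x * (g : G)⁻¹ ∈ perp D d
    have hfix : Commute d (g : G) :=
      FischerMTypes.Levels.commute_closure (fun s hs => hs.2.2) _ g.2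
    have h := (conj_mem_perp_iff hP.hD (g : G) d (x : G)).2 hx
    rwa [← hfix.eq, mul_inv_cancel_right] at h

theorem commute_coe_iff {H : Subgroup G} {a b : H} : Commute a b ↔ Commute (a : G) (b : G) :=
  ⟨fun h => h.map H.subtype, fun h => Subtype.ext h⟩

theorem localCentral_everywhere (hP : Prim D) {p : ℕ} {d e : G} (hd : d ∈ D) (he : e ∈ D)
    (h : LocalCentral p D d) : LocalCentral p D e := by
  obtain ⟨g, rfl⟩ := hP.hprim.1 d hd e he
  exact hP.localCentral_conj g d h

theorem not_localCentral_two (hP : Prim D) (h : HasTwinTwo D) {d : G} (hd : d ∈ D) :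
    ¬ LocalCentral 2 D d := fun hc => by
  obtain ⟨d₀, hd₀, b, hb, v, hv, hne, hsame, x, hx, hbx⟩ := h
  have hc0 := localCentral_everywhere hP hd hd₀ hc
  have hS := hP.hD.1
  let b' : ↥(Hd D d₀) := ⟨b, Subgroup.subset_closure hb⟩
  let v' : ↥(Hd D d₀) := ⟨v, Subgroup.subset_closure hv⟩
  let x' : ↥(Hd D d₀) := ⟨x, Subgroup.subset_closure hx⟩
  have hvset : v' ∈ vSet {y : ↥(Hd D d₀) | (y : G) ∈ perp D d₀} b' :=
    ⟨hv, fun y hy => by rw [commute_coe_iff, commute_coe_iff]; exact hsame _ hy⟩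
  have hz := hc0 (mul_mem_pCore_two (closed_local hP d₀) hb hvset)
  have hzx : Commute (v * b) x := (Subgroup.mem_center_iff.1 hz x').symm |> congrArg Subtype.val
  have hbv : Commute v b := (hsame b hb).2 (Commute.refl b)
  have hvx : ¬ Commute v x := fun h => hbx ((hsame x hx).1 h)
  have e : v * x = (v * b) * (b * x) := by
    rw [mul_assoc v b, mul_self_assoc hS hb.1]
  have hcm : Commute (v * b) (b * x) := ((hbv.mul_left (Commute.refl b))).mul_right hzx
  have h1 : (v * b) ^ 3 = 1 := by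
    have h := cube_eq_one hS hv.1 hx.1 hvx
    rwa [e, hcm.mul_pow, cube_eq_one hS hb.1 hx.1 hbx, mul_one] at h
  have h2 : (v * b) ^ 2 = 1 := sq_eq_one_of_commute (mul_self hS hv.1) (mul_self hS hb.1) hbv
  rw [pow_succ, h2, one_mul] at h1
  exact hne ((eq_inv_of_mul_eq_one_left h1).trans (inv_eq hS hb.1))

theorem not_localCentral_three (hP : Prim D) (h : HasTwinThree D) {d : G} (hd : d ∈ D) :
    ¬ LocalCentral 3 D d := fun hc => by
  obtain ⟨d₀, hd₀, b, hb, v, hv, hne, hsame⟩ := h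
  have hc0 := localCentral_everywhere hP hd hd₀ hc
  have hS := hP.hD.1
  let b' : ↥(Hd D d₀) := ⟨b, Subgroup.subset_closure hb⟩
  let v' : ↥(Hd D d₀) := ⟨v, Subgroup.subset_closure hv⟩
  have hwset : v' ∈ wSet {y : ↥(Hd D d₀) | (y : G) ∈ perp D d₀} b' := by
    refine mem_wSet_iff.2 ⟨hv, fun y hy => ?_⟩
    rw [commute_coe_iff, commute_coe_iff, Ne, Ne, ← Subtype.val_inj, ← Subtype.val_inj]
    exact hsame _ hy
  have hz := hc0 (mul_mem_pCore_three quaternionCentre.{u} (closed_local hP d₀) hb hwset)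
  have hzb : Commute (v * b) b := (Subgroup.mem_center_iff.1 hz b').symm |> congrArg Subtype.val
  have hbv : Commute b v := by
    have h := hzb.mul_left (Commute.refl b)
    rw [mul_assoc, mul_self hS hb.1, mul_one] at h
    exact h.symm
  exact ((hsame b hb).2 ⟨hne.symm, hbv.symm⟩).1 rfl

end Cfsg.Agent.Lib.FischerThm.H1
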